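/-
The unitriangular representation of a `p`-group on a normal elementary abelian subgroup.

* `exists_coord`, `exists_flag_rep`, `card_closure_le`
-/
import Cfsg.Agent.Lib.PGroup.Basic
import Cfsg.Agent.Lib.PGroup.NormalAbelian

set_option autoImplicit false

namespace Cfsg.Agent.SubgroupRank

open scoped commutatorElement
open Subgroup

variable {P : Type*} [Group P] [Finite P] {p : ℕ} [hp : Fact p.Prime]

/-- Coordinates along a flag of normal subgroups. -/
theorem exists_coord (hP : IsPGroup p P) :
    ∀ (a : ℕ) (A : Subgroup P), A.Normal → (∀ x ∈ A, ∀ y ∈ A, x * y = y * x) → (∀ x ∈ A, x ^ p = 1) →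
      Nat.card A = p ^ a → ∃ ψ : (Fin a → ZMod p) → P,
        (∀ u v, ψ (u + v) = ψ u * ψ v) ∧ Function.Injective ψ ∧ (∀ x, x ∈ A ↔ ∃ v, ψ v = x) ∧
        ∀ (g : P) (j : Fin a), ∃ v : Fin a → ZMod p, (∀ i, j ≤ i → v i = 0) ∧
          g * ψ (Pi.single j 1) * g⁻¹ = ψ (v + Pi.single j 1) := by
  intro a
  induction a with
  | zero =>
    intro A _ _ _ hA
    refine ⟨fun _ => 1, fun _ _ => (one_mul 1).symm, fun u v _ => Subsingleton.elim u v, fun x => ?_,
      fun _ j => j.elim0⟩
    have hbot : A = ⊥ := eq_bot_of_card_eq A (by simpa using hA)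
    rw [hbot, mem_bot]
    exact ⟨fun h => ⟨0, h.symm⟩, fun ⟨_, h⟩ => h.symm⟩
  | succ a ih =>
    intro A hAn hAc hAe hA
    obtain ⟨B, hBn, hBA, hB⟩ := PGroup.exists_normal_le_card hP hA a (Nat.le_succ a)
    have hlt : B < A := lt_of_le_of_ne hBA fun h => by
      rw [h, hA] at hB
      exact absurd (Nat.pow_right_injective hp.out.two_le hB) (by omega)
    obtain ⟨x, hxA, hxB⟩ := SetLike.exists_of_lt hlt
    obtain ⟨ψ, hψ, hψi, hψB, hψc⟩ := ih B hBn (fun u hu v hv => hAc u (hBA hu) v (hBA hv))
      (fun u hu => hAe u (hBA hu)) hB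
    have hmemB : ∀ v, ψ v ∈ B := fun v => (hψB _).mpr ⟨v, rfl⟩
    have hψ0 : ψ 0 = 1 := by
      have := hψ 0 0
      rw [add_zero] at this
      exact mul_eq_left.mp this.symm
    have hxp : ∀ s t : ZMod p, x ^ (s + t).val = x ^ s.val * x ^ t.val := fun s t => by
      rw [ZMod.val_add, ← pow_add]
      conv_rhs => rw [← Nat.mod_add_div (s.val + t.val) p, pow_add, pow_mul, hAe x hxA, one_pow, mul_one]
    let Ψ : (Fin (a + 1) → ZMod p) → P := fun v => ψ (fun i => v i.castSucc) * x ^ (v (Fin.last a)).val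
    have hΨA : ∀ v, Ψ v ∈ A := fun v => mul_mem (hBA (hmemB _)) (pow_mem hxA _)
    have hΨinj : Function.Injective Ψ := by
      intro u v h
      have hlast : u (Fin.last a) = v (Fin.last a) := by
        by_contra hne
        apply hxB
        have h1 : x ^ (u (Fin.last a) - v (Fin.last a)).val ∈ B := by
          have h2 : x ^ (u (Fin.last a)).val =
              ((ψ fun i => u i.castSucc)⁻¹ * ψ fun i => v i.castSucc) * x ^ (v (Fin.last a)).val := by
            rw [mul_assoc, show (ψ fun i => v i.castSucc) * x ^ (v (Fin.last a)).val =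
              (ψ fun i => u i.castSucc) * x ^ (u (Fin.last a)).val from h.symm]
            exact (inv_mul_cancel_left _ _).symm
          have h3 := hxp (u (Fin.last a) - v (Fin.last a)) (v (Fin.last a))
          rw [sub_add_cancel, h2] at h3
          rw [← mul_right_cancel h3]
          exact mul_mem (inv_mem (hmemB _)) (hmemB _)
        have hcop : (u (Fin.last a) - v (Fin.last a)).val.Coprime (orderOf x) := by
          refine Nat.Coprime.coprime_dvd_right (orderOf_dvd_of_pow_eq_one (hAe x hxA)) ?_
          refine (hp.out.coprime_iff_not_dvd.mpr fun hd => hne ?_).symm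
          exact sub_eq_zero.mp ((ZMod.val_eq_zero _).mp (Nat.eq_zero_of_dvd_of_lt hd (ZMod.val_lt _)))
        obtain ⟨e, he⟩ := exists_pow_eq_self_of_coprime hcop
        rw [← he]
        exact pow_mem h1 e
      have h' := h
      simp only [Ψ, hlast, mul_left_inj] at h'
      funext i
      exact Fin.lastCases hlast (fun i => congrFun (hψi h') i) i
    refine ⟨Ψ, fun u v => ?_, hΨinj, fun y => ⟨fun hy => ?_, ?_⟩, ?_⟩
    · show ψ (fun i => (u + v) i.castSucc) * x ^ ((u + v) (Fin.last a)).val = _
      rw [show (fun i : Fin a => (u + v) i.castSucc) = (fun i => u i.castSucc) + fun i => v i.castSucc from rfl,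
        hψ, Pi.add_apply, hxp]
      calc ψ (fun i => u i.castSucc) * ψ (fun i => v i.castSucc) *
            (x ^ (u (Fin.last a)).val * x ^ (v (Fin.last a)).val)
          = ψ (fun i => u i.castSucc) * (ψ (fun i => v i.castSucc) * x ^ (u (Fin.last a)).val) *
            x ^ (v (Fin.last a)).val := by group
        _ = ψ (fun i => u i.castSucc) * (x ^ (u (Fin.last a)).val * ψ (fun i => v i.castSucc)) *
            x ^ (v (Fin.last a)).val := by rw [hAc _ (hBA (hmemB _)) _ (pow_mem hxA _)]
        _ = _ := by simp only [Ψ]; group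
    · have hbij : Function.Bijective (fun v => (⟨Ψ v, hΨA v⟩ : A)) :=
        (Nat.bijective_iff_injective_and_card _).mpr
          ⟨fun u v h => hΨinj (congrArg Subtype.val h), by rw [hA, Nat.card_fun, Nat.card_zmod, Nat.card_fin]⟩
      obtain ⟨v, hv⟩ := hbij.2 ⟨y, hy⟩
      exact ⟨v, congrArg Subtype.val hv⟩
    · rintro ⟨v, rfl⟩; exact hΨA v
    intro g j
    refine Fin.lastCases ?_ (fun j => ?_) j
    · obtain ⟨v, hv⟩ := (hψB _).mp (PGroup.commutator_mem_of_card hP hlt (by rw [hA, hB, pow_succ']) hxA g)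
      refine ⟨Fin.snoc v 0, fun i hi => ?_, ?_⟩
      · rw [show i = Fin.last a from le_antisymm (Fin.le_last i) hi, Fin.snoc_last]
      · have h1 : Ψ (Pi.single (Fin.last a) 1) = x := by
          show ψ _ * _ = x
          rw [show (fun i : Fin a => (Pi.single (Fin.last a) (1 : ZMod p) : Fin (a + 1) → ZMod p) i.castSucc) = 0
            from funext fun i => Pi.single_eq_of_ne (Fin.castSucc_lt_last i).ne 1, hψ0, Pi.single_eq_same,
            ZMod.val_one, pow_one, one_mul]
        have h2 : Ψ (Fin.snoc v 0 + Pi.single (Fin.last a) 1) = ψ v * x := by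
          show ψ _ * _ = _
          rw [show (fun i : Fin a => (Fin.snoc v (0 : ZMod p) + Pi.single (Fin.last a) 1 : Fin (a + 1) → ZMod p)
              i.castSucc) = v from funext fun i => by
                rw [Pi.add_apply, Fin.snoc_castSucc, Pi.single_eq_of_ne (Fin.castSucc_lt_last i).ne, add_zero],
            Pi.add_apply, Fin.snoc_last, zero_add, Pi.single_eq_same, ZMod.val_one, pow_one]
        rw [h1, h2, hv, commutatorElement_def]
        group
    · obtain ⟨v, hv0, hv⟩ := hψc g j
      refine ⟨Fin.snoc v 0, fun i hi => ?_, ?_⟩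
      · revert hi
        refine Fin.lastCases (fun _ => ?_) (fun i hi => ?_) i
        · rw [Fin.snoc_last]
        · rw [Fin.snoc_castSucc]; exact hv0 i (Fin.castSucc_le_castSucc_iff.mp hi)
      · have hs : (fun i : Fin a => (Pi.single j.castSucc (1 : ZMod p) : Fin (a + 1) → ZMod p) i.castSucc) =
            Pi.single j 1 := funext fun i => by
          rw [Pi.single_apply, Pi.single_apply]
          simp [Fin.castSucc_inj]
        have h0 : (Pi.single j.castSucc (1 : ZMod p) : Fin (a + 1) → ZMod p) (Fin.last a) = 0 :=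
          Pi.single_eq_of_ne (Fin.castSucc_lt_last j).ne' 1
        have h1 : Ψ (Pi.single j.castSucc 1) = ψ (Pi.single j 1) := by
          show ψ _ * _ = _
          rw [hs, h0, ZMod.val_zero, pow_zero, mul_one]
        have h2 : Ψ (Fin.snoc v 0 + Pi.single j.castSucc 1) = ψ (v + Pi.single j 1) := by
          show ψ _ * _ = _
          rw [show (fun i : Fin a => (Fin.snoc v (0 : ZMod p) + Pi.single j.castSucc 1 : Fin (a + 1) → ZMod p)
              i.castSucc) = v + Pi.single j 1 from funext fun i => by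
                rw [Pi.add_apply, Fin.snoc_castSucc, Pi.add_apply, ← congrFun hs i],
            Pi.add_apply, Fin.snoc_last, h0, add_zero, ZMod.val_zero, pow_zero, mul_one]
        rw [h1, h2, hv]

/-- A unitriangular representation with kernel the centralizer. -/
theorem exists_flag_rep (hP : IsPGroup p P) {A : Subgroup P} (hAn : A.Normal)
    (hAc : ∀ x ∈ A, ∀ y ∈ A, x * y = y * x) (hAe : ∀ x ∈ A, x ^ p = 1) {a : ℕ} (hA : Nat.card A = p ^ a) :
    ∃ ρ : P →* Matrix (Fin a) (Fin a) (ZMod p),
      (∀ h i j, (ρ h - 1) i j ≠ 0 → i < j) ∧ ∀ g, ρ g = 1 → g ∈ centralizer (A : Set P) := by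
  classical
  obtain ⟨ψ, hψ, hψi, hψA, hψc⟩ := exists_coord hP a A hAn hAc hAe hA
  have hinv : ∀ (g : P) v, ∃ w, ψ w = g * ψ v * g⁻¹ := fun g v =>
    (hψA _).mp (hAn.conj_mem _ ((hψA _).mpr ⟨v, rfl⟩) g)
  choose L hL using hinv
  have hadd : ∀ g u v, L g (u + v) = L g u + L g v := fun g u v => hψi (by
    rw [hψ, hL, hL, hL, hψ]; group)
  have hone : ∀ v, L 1 v = v := fun v => hψi (by rw [hL]; group)
  have hmul : ∀ g h v, L (g * h) v = L g (L h v) := fun g h v => hψi (by rw [hL, hL, hL]; group)
  let T : P → ((Fin a → ZMod p) →ₗ[ZMod p] (Fin a → ZMod p)) := fun g =>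
    (AddMonoidHom.mk' (L g) (hadd g)).toZModLinearMap p
  have hT : ∀ g v, T g v = L g v := fun g v => rfl
  let ρ : P →* Matrix (Fin a) (Fin a) (ZMod p) :=
    { toFun := fun g => LinearMap.toMatrix' (T g)
      map_one' := by
        rw [show T 1 = 1 from LinearMap.ext fun v => by rw [hT, hone]; rfl, LinearMap.toMatrix'_one]
      map_mul' := fun g h => by
        rw [show T (g * h) = T g * T h from LinearMap.ext fun v => by rw [hT, hmul]; rfl,
          LinearMap.toMatrix'_mul] }
  refine ⟨ρ, fun g i j hij => ?_, fun g hg => ?_⟩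
  · by_contra hle
    apply hij
    obtain ⟨v, hv0, hv⟩ := hψc g j
    have hLv : L g (Pi.single j 1) = v + Pi.single j 1 := hψi (by rw [hL, hv])
    rw [Matrix.sub_apply]
    show LinearMap.toMatrix' (T g) i j - _ = 0
    rw [LinearMap.toMatrix'_apply, hT, hLv, Pi.add_apply, hv0 i (not_lt.mp hle), zero_add,
      Pi.single_apply, Matrix.one_apply, sub_self]
  · rw [mem_centralizer_iff]
    intro x hx
    obtain ⟨v, rfl⟩ := (hψA x).mp hx
    have h1 : T g = 1 := by
      apply LinearMap.toMatrix'.injective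
      rw [LinearMap.toMatrix'_one]; exact hg
    have h2 : ψ v = g * ψ v * g⁻¹ := by
      rw [← hL, ← hT, h1]; rfl
    nth_rewrite 1 [h2]
    group

/-- A commutative group of exponent `p` generated by `S` has at most `p ^ |S|` elements. -/
theorem card_closure_le {G : Type*} [Group G] [Finite G] (hc : ∀ u v : G, u * v = v * u)
    (he : ∀ u : G, u ^ p = 1) (S : Finset G) : Nat.card (closure (S : Set G)) ≤ p ^ S.card := by
  classical
  induction S using Finset.induction_on with
  | empty => simp
  | @insert x s hx ih =>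
    rw [Finset.coe_insert, Set.insert_eq, Subgroup.closure_union, ← zpowers_eq_closure, Finset.card_insert_of_notMem hx,
      pow_succ']
    haveI : (zpowers x).Normal := ⟨fun n hn g => by rwa [hc g n, mul_inv_cancel_right]⟩
    have hsurj : ∀ y : ↥(zpowers x ⊔ closure (s : Set G)), ∃ q : zpowers x × closure (s : Set G),
        (q.1 : G) * q.2 = y := fun y => by
      obtain ⟨u, hu, v, hv, huv⟩ := mem_sup_of_normal_left.mp y.2
      exact ⟨(⟨u, hu⟩, ⟨v, hv⟩), huv⟩
    choose f hf using hsurj
    have h := Nat.card_le_card_of_injective f fun y z h => Subtype.ext (by rw [← hf y, ← hf z, h])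
    rw [Nat.card_prod, Nat.card_zpowers] at h
    exact h.trans (Nat.mul_le_mul (Nat.le_of_dvd hp.out.pos (orderOf_dvd_of_pow_eq_one (he x))) ih)

end Cfsg.Agent.SubgroupRank
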