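/-
`p`-central groups, `p` odd: all elements of order `p` are central.

* `pow_inj`: `x ^ p = y ^ p` gives `(x⁻¹ y) ^ p = 1`
* `index_frattini_le_card`: the Frattini index is at most the number of solutions of `x ^ p = 1`
-/
import Cfsg.Agent.Lib.PGroup.Basic
import Cfsg.Agent.Lib.PGroup.Power

set_option autoImplicit false

namespace Cfsg.Agent.SubgroupRank

open scoped commutatorElement
open Subgroup

variable {G : Type*} [Group G] [Finite G] {p : ℕ} [hp : Fact p.Prime]

theorem pow_inj (hp2 : p ≠ 2) (hG : IsPGroup p G)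
    (hc : ∀ g : G, g ^ p = 1 → g ∈ center G) :
    ∀ x y : G, x ^ p = y ^ p → (x⁻¹ * y) ^ p = 1 := by
  suffices h : ∀ (n : ℕ) (x y : G), Nat.card (closure ({x, y} : Set G)) ≤ n → x ^ p = y ^ p →
      (x⁻¹ * y) ^ p = 1 from fun x y => h _ x y le_rfl
  intro n
  induction n using Nat.strong_induction_on with
  | _ n ih =>
    intro x y hn hxy
    set H := closure ({x, y} : Set G) with hH
    have hxH : x ∈ H := subset_closure (by simp)
    have hyH : y ∈ H := subset_closure (by simp)
    by_cases hcomm : Commute x y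
    · rw [(Commute.inv_left hcomm).mul_pow, inv_pow, hxy, inv_mul_cancel]
    set w := x * y * x⁻¹ with hw
    set K := closure ({y, w} : Set G) with hK
    have hKH : K ≤ H := by
      rw [hK, closure_le]
      intro z hz
      rcases hz with rfl | rfl
      · exact hyH
      · exact mul_mem (mul_mem hxH hyH) (inv_mem hxH)
    have hlt : K ≠ H := by
      intro he
      haveI := (hG.to_subgroup H).isNilpotent
      set y' : H := ⟨y, hyH⟩
      have htop : zpowers y' ⊔ frattini H = ⊤ := by
        rw [eq_top_iff]
        have hcl : (⊤ : Subgroup H) ≤ K.subgroupOf H := fun z _ => he.ge z.2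
        refine hcl.trans ?_
        have hgen : K ≤ (zpowers y' ⊔ frattini H).map H.subtype := by
          rw [hK, closure_le]
          intro z hz
          rcases hz with rfl | rfl
          · exact ⟨y', mem_sup_left (mem_zpowers y'), rfl⟩
          · refine ⟨⁅(⟨x, hxH⟩ : H), y'⁆ * y', mul_mem (mem_sup_right ?_) (mem_sup_left (mem_zpowers y')), ?_⟩
            · exact PGroup.commutatorElement_mem_frattini (hG.to_subgroup H) _ _
            · simp [y', hw, commutatorElement_def]
        intro z hz
        obtain ⟨u, hu, huz⟩ := hgen (mem_subgroupOf.mp hz)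
        rwa [Subtype.ext huz] at hu
      have htop' : zpowers y' = ⊤ := PGroup.eq_top_of_sup_frattini htop
      have hmem : (⟨x, hxH⟩ : H) ∈ zpowers y' := htop' ▸ mem_top _
      obtain ⟨k, hk⟩ := mem_zpowers_iff.mp hmem
      apply hcomm
      have hk' : y ^ k = x := congrArg Subtype.val hk
      rw [← hk']
      exact (Commute.refl y).zpow_left k
    have hcard : Nat.card K < n := lt_of_lt_of_le
      (lt_of_le_of_ne (card_le_of_le hKH) fun e => hlt (eq_of_le_of_card_ge hKH e.ge)) hn
    have hwp : y ^ p = w ^ p := by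
      rw [hw, conj_pow, ← hxy, ← pow_succ', pow_succ, mul_inv_cancel_right]
    have hc1 := ih _ hcard y w le_rfl hwp
    set c := y⁻¹ * w with hcdef
    have hcz : ∀ g, g * c = c * g := fun g => mem_center_iff.mp (hc c hc1) g
    have hyx : ⁅y, x⁻¹⁆ = c := by
      calc ⁅y, x⁻¹⁆ = x⁻¹ * (y * c * y⁻¹) * x := by rw [hcdef, hw, commutatorElement_def]; group
        _ = x⁻¹ * c * x := by rw [hcz y]; group
        _ = c := by rw [hcz x⁻¹]; group
    rw [PGroup.mul_pow_prime_eq hp.out hp2 (by rw [hyx]; exact hcz _) (by rw [hyx]; exact hcz _)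
      (by rw [hyx]; exact hc1), inv_pow, hxy, inv_mul_cancel]

/-- The Frattini index of a `p`-central group. -/
theorem index_frattini_le_card (hp2 : p ≠ 2) (hG : IsPGroup p G)
    (hc : ∀ g : G, g ^ p = 1 → g ∈ center G) :
    (frattini G).index ≤ Nat.card {g : G // g ^ p = 1} := by
  classical
  let f : G → frattini G := fun g => ⟨g ^ p, PGroup.pow_mem_frattini hG g⟩
  let r : frattini G → G := fun v => if h : ∃ g, f g = v then h.choose else 1
  have hr : ∀ g, f (r (f g)) = f g := fun g => by
    simp only [r, dif_pos (⟨g, rfl⟩ : ∃ g', f g' = f g)]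
    exact Exists.choose_spec (⟨g, rfl⟩ : ∃ g', f g' = f g)
  let φ : G → frattini G × {g : G // g ^ p = 1} := fun g =>
    (f g, ⟨(r (f g))⁻¹ * g, pow_inj hp2 hG hc _ _ (congrArg Subtype.val (hr g))⟩)
  have hinj : Function.Injective φ := by
    intro a b h
    have h1 : f a = f b := congrArg Prod.fst h
    have h2 : (r (f a))⁻¹ * a = (r (f b))⁻¹ * b := congrArg Subtype.val (congrArg Prod.snd h)
    rw [h1] at h2
    exact mul_left_cancel h2
  have h := Nat.card_le_card_of_injective φ hinj
  rw [Nat.card_prod, ← (frattini G).card_mul_index] at h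
  exact Nat.le_of_mul_le_mul_left h Nat.card_pos

end Cfsg.Agent.SubgroupRank
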