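/-
`p`-groups with a unitriangular representation of degree `a` are generated, modulo the kernel, by at most
`a ^ 2 / 4` elements: the leading positions of a basis of the Frattini quotient form a triangle-free graph.

* `index_ker_sup_frattini_le`
-/
import Cfsg.Agent.Lib.PGroup.Basic

set_option autoImplicit false
set_option linter.unusedSectionVars false

namespace Cfsg.Agent.SubgroupRank

open scoped commutatorElement
open Subgroup

variable {a : ℕ} {R : Type*} [CommRing R]

/-- Support above the antidiagonal of weight `t`. -/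
def InLevel (t : ℕ) (M : Matrix (Fin a) (Fin a) R) : Prop :=
  ∀ i j, M i j ≠ 0 → i < j ∧ t + 2 ^ (i : ℕ) ≤ 2 ^ (j : ℕ)

theorem InLevel.mono {s t : ℕ} (h : s ≤ t) {M : Matrix (Fin a) (Fin a) R} (hM : InLevel t M) :
    InLevel s M := fun i j hij => ⟨(hM i j hij).1, le_trans (by omega) (hM i j hij).2⟩

theorem InLevel.add {t : ℕ} {M N : Matrix (Fin a) (Fin a) R} (hM : InLevel t M) (hN : InLevel t N) :
    InLevel t (M + N) := fun i j hij => by
  by_cases h : M i j = 0
  · refine hN i j fun h' => hij ?_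
    rw [Matrix.add_apply, h, h', add_zero]
  · exact hM i j h

theorem InLevel.sub {t : ℕ} {M N : Matrix (Fin a) (Fin a) R} (hM : InLevel t M) (hN : InLevel t N) :
    InLevel t (M - N) := fun i j hij => by
  by_cases h : M i j = 0
  · refine hN i j fun h' => hij ?_
    rw [Matrix.sub_apply, h, h', sub_zero]
  · exact hM i j h

theorem InLevel.zero (t : ℕ) : InLevel t (0 : Matrix (Fin a) (Fin a) R) := fun i j hij => absurd rfl hij

theorem InLevel.mul {s t : ℕ} {M N : Matrix (Fin a) (Fin a) R} (hM : InLevel s M) (hN : InLevel t N) :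
    InLevel (s + t) (M * N) := fun i j hij => by
  obtain ⟨k, -, hk⟩ := Finset.exists_ne_zero_of_sum_ne_zero (Matrix.mul_apply (M := M) (N := N) ▸ hij)
  obtain ⟨h1, h2⟩ := hM i k (left_ne_zero_of_mul hk)
  obtain ⟨h3, h4⟩ := hN k j (right_ne_zero_of_mul hk)
  exact ⟨h1.trans h3, by omega⟩

theorem two_pow_sub_inj {i j k l : ℕ} (hij : i < j) (hkl : k < l)
    (h : 2 ^ j + 2 ^ k = 2 ^ l + 2 ^ i) : i = k ∧ j = l := by
  rcases lt_trichotomy j l with hjl | hjl | hjl
  · exfalso
    have h1 : 2 ^ j * 2 ≤ 2 ^ l := by rw [← pow_succ]; exact Nat.pow_le_pow_right two_pos hjl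
    have h2 : 2 ^ i < 2 ^ j := Nat.pow_lt_pow_right one_lt_two hij
    have h3 : 2 ^ k < 2 ^ l := Nat.pow_lt_pow_right one_lt_two hkl
    have h4 : 2 ^ k * 2 ≤ 2 ^ l := by rw [← pow_succ]; exact Nat.pow_le_pow_right two_pos hkl
    have := Nat.two_pow_pos i
    omega
  · subst hjl
    exact ⟨Nat.pow_right_injective le_rfl (show 2 ^ i = 2 ^ k by omega), rfl⟩
  · exfalso
    have h1 : 2 ^ l * 2 ≤ 2 ^ j := by rw [← pow_succ]; exact Nat.pow_le_pow_right two_pos hjl
    have h4 : 2 ^ i * 2 ≤ 2 ^ j := by rw [← pow_succ]; exact Nat.pow_le_pow_right two_pos hij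
    have := Nat.two_pow_pos k
    omega

/-- A triangle-free set of pairs on `a` points has at most `a ^ 2 / 4` members. -/
theorem card_triangleFree (D : Finset (Fin a × Fin a)) (hlt : ∀ d ∈ D, d.1 < d.2)
    (htri : ∀ i j k, (i, j) ∈ D → (j, k) ∈ D → (i, k) ∈ D → False) : D.card ≤ a ^ 2 / 4 := by
  classical
  let Γ : SimpleGraph (Fin a) :=
    { Adj := fun i j => (i, j) ∈ D ∨ (j, i) ∈ D
      symm := ⟨fun i j h => h.symm⟩
      loopless := ⟨fun i h => absurd (hlt _ (h.elim id id)) (lt_irrefl _)⟩ }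
  have hadj : ∀ {i j}, Γ.Adj i j → i < j → (i, j) ∈ D := fun {i j} h hij =>
    h.resolve_right fun h' => absurd (hlt _ h') hij.asymm
  have hfree : Γ.CliqueFree (2 + 1) := by
    intro s hs
    obtain ⟨x, y, z, hxy, hxz, hyz, -⟩ := SimpleGraph.is3Clique_iff.mp hs
    have key : ∀ {x y z}, Γ.Adj x y → Γ.Adj x z → Γ.Adj y z → x < y → y < z → False :=
      fun {x y z} h1 h2 h3 hxy hyz => htri _ _ _ (hadj h1 hxy) (hadj h3 hyz) (hadj h2 (hxy.trans hyz))
    rcases lt_or_gt_of_ne hxy.ne with h1 | h1 <;> rcases lt_or_gt_of_ne hxz.ne with h2 | h2 <;>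
      rcases lt_or_gt_of_ne hyz.ne with h3 | h3
    · exact key hxy hxz hyz h1 h3
    · exact key hxz hxy hyz.symm h2 h3
    · exact absurd (h1.trans h3) h2.asymm
    · exact key hxz.symm hyz.symm hxy h2 h1
    · exact key hxy.symm hyz hxz h1 h2
    · exact absurd (h1.trans h2) h3.asymm
    · exact key hyz hxy.symm hxz.symm h3 h2
    · exact key hyz.symm hxz.symm hxy.symm h3 h1
  have h := hfree.card_edgeFinset_le
  simp only [Fintype.card_fin, Nat.add_one_sub_one, mul_one] at h
  have hD : D.card ≤ Γ.edgeFinset.card := by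
    refine Finset.card_le_card_of_injOn (fun d => s(d.1, d.2)) (fun d hd => ?_) fun d hd e he hde => ?_
    · rw [Finset.mem_coe, SimpleGraph.mem_edgeFinset, SimpleGraph.mem_edgeSet]
      exact Or.inl hd
    · rcases Sym2.eq_iff.mp hde with ⟨h1, h2⟩ | ⟨h1, h2⟩
      · exact Prod.ext h1 h2
      · have := hlt _ hd; have := hlt _ he; rw [h1, h2] at *; exact absurd (hlt _ he) (by
          intro h; exact absurd h (lt_asymm (by assumption)))
  refine hD.trans (h.trans ?_)
  rw [Nat.choose_eq_zero_of_lt (Nat.mod_lt a two_pos), add_zero]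
  exact Nat.div_le_div_right (Nat.sub_le _ _)

variable {H : Type*} [Group H] [Finite H] {p : ℕ} [hp : Fact p.Prime]

/-- A normal subgroup with an element outside whose `p`-th power is inside. -/
theorem index_le_mul_index_sup {K : Subgroup H} [K.Normal] {x : H} (hx : x ^ p ∈ K) :
    K.index ≤ p * (K ⊔ zpowers x).index := by
  have h1 : (K ⊔ zpowers x).index = (zpowers (x : H ⧸ K)).index := by
    rw [← Subgroup.index_comap_of_surjective (f := QuotientGroup.mk' K) _
      (QuotientGroup.mk'_surjective K), ← QuotientGroup.mk'_apply, ← MonoidHom.map_zpowers,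
      Subgroup.comap_map_eq, QuotientGroup.ker_mk', sup_comm]
  have h2 : orderOf (x : H ⧸ K) ≤ p := by
    refine Nat.le_of_dvd hp.out.pos (orderOf_dvd_of_pow_eq_one ?_)
    rw [← QuotientGroup.mk_pow]
    exact (QuotientGroup.eq_one_iff _).mpr hx
  rw [h1, Subgroup.index_eq_card K, ← (zpowers (x : H ⧸ K)).card_mul_index, Nat.card_zpowers]
  exact Nat.mul_le_mul_right _ h2

/-- A unitriangular representation bounds the generator number modulo its kernel. -/
theorem index_ker_sup_frattini_le (hH : IsPGroup p H) (ρ : H →* Matrix (Fin a) (Fin a) (ZMod p))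
    (hρ : ∀ h i j, (ρ h - 1) i j ≠ 0 → i < j) :
    (ρ.ker ⊔ frattini H).index ≤ p ^ (a ^ 2 / 4) := by
  classical
  have hlev1 : ∀ h, InLevel 1 (ρ h - 1) := fun h i j hij => by
    have h1 := hρ h i j hij
    refine ⟨h1, ?_⟩
    have : 2 ^ (i : ℕ) < 2 ^ (j : ℕ) := Nat.pow_lt_pow_right one_lt_two h1
    omega
  -- the filtration
  let X : ℕ → Subgroup H := fun t =>
    { carrier := {h | InLevel t (ρ h - 1)}
      one_mem' := by
        show InLevel t (ρ 1 - 1)
        rw [map_one, sub_self]; exact InLevel.zero t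
      mul_mem' := fun {x y} hx hy => by
        show InLevel t (ρ (x * y) - 1)
        rw [map_mul, show ρ x * ρ y - 1 = (ρ x - 1) + (ρ y - 1) + (ρ x - 1) * (ρ y - 1) by noncomm_ring]
        exact (InLevel.add hx hy).add ((InLevel.mul hx hy).mono (Nat.le_add_right t t))
      inv_mem' := fun {x} hx => by
        have hpow : ∀ n : ℕ, InLevel t (ρ (x ^ n) - 1) := by
          intro n
          induction n with
          | zero => rw [pow_zero, map_one, sub_self]; exact InLevel.zero t
          | succ n ih =>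
            rw [pow_succ, map_mul,
              show ρ (x ^ n) * ρ x - 1 = (ρ (x ^ n) - 1) + (ρ x - 1) + (ρ (x ^ n) - 1) * (ρ x - 1) by noncomm_ring]
            exact (InLevel.add ih hx).add ((InLevel.mul ih hx).mono (Nat.le_add_right t t))
        obtain ⟨n, hn⟩ := (mem_powers_iff_mem_zpowers (x := x) (y := x⁻¹)).mpr (inv_mem (mem_zpowers x))
        show InLevel t (ρ x⁻¹ - 1)
        simp only at hn
        rw [← hn]; exact hpow n }
  have memX : ∀ t h, h ∈ X t ↔ InLevel t (ρ h - 1) := fun _ _ => Iff.rfl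
  let M : ℕ → Subgroup H := fun t => X t ⊔ frattini H
  have hMn : ∀ t, (M t).Normal := fun t =>
    Subgroup.Normal.of_commutator_le (G := H) (H := M t) ((PGroup.commutator_le_frattini hH).trans le_sup_right)
  -- one step of the filtration
  have hstep : ∀ (t : ℕ) (i j : Fin a), i < j → t + 2 ^ (i : ℕ) = 2 ^ (j : ℕ) → ∀ h ∈ X t,
      (ρ h - 1) i j = 0 → h ∈ X (t + 1) := by
    intro t i j hij ht h hh h0 k l hkl
    obtain ⟨h1, h2⟩ := hh k l hkl
    refine ⟨h1, ?_⟩
    by_contra hlt
    obtain ⟨e1, e2⟩ := two_pow_sub_inj (i := (i : ℕ)) (j := (j : ℕ)) (k := (k : ℕ)) (l := (l : ℕ)) hij h1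
      (by omega)
    rw [← Fin.ext e1, ← Fin.ext e2] at hkl
    exact hkl h0
  have hentry : ∀ (t : ℕ) (i j : Fin a), 1 ≤ t → t + 2 ^ (i : ℕ) = 2 ^ (j : ℕ) → ∀ g ∈ X t, ∀ h ∈ X t,
      (ρ (g * h) - 1) i j = (ρ g - 1) i j + (ρ h - 1) i j := by
    intro t i j ht1 ht g hg h hh
    rw [map_mul, show ρ g * ρ h - 1 = (ρ g - 1) + (ρ h - 1) + (ρ g - 1) * (ρ h - 1) by noncomm_ring,
      Matrix.add_apply, Matrix.add_apply]
    have : ((ρ g - 1) * (ρ h - 1)) i j = 0 := by
      by_contra hne
      have := (InLevel.mul hg hh i j hne).2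
      omega
    rw [this, add_zero]
  -- membership by one nonzero entry
  have hgen : ∀ (t : ℕ) (i j : Fin a), 1 ≤ t → i < j → t + 2 ^ (i : ℕ) = 2 ^ (j : ℕ) → ∀ g ∈ X t,
      (ρ g - 1) i j ≠ 0 → ∀ h ∈ X t, h ∈ X (t + 1) ⊔ zpowers g := by
    intro t i j ht1 hij ht g hg hg0 h hh
    set c := (ρ g - 1) i j with hc
    set k := ((ρ h - 1) i j * c⁻¹).val with hk
    have hpw : ∀ n : ℕ, (ρ (g ^ n) - 1) i j = n * c := by
      intro n
      induction n with
      | zero => rw [pow_zero, map_one, sub_self, Matrix.zero_apply, Nat.cast_zero, zero_mul]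
      | succ n ih =>
        rw [pow_succ, hentry t i j ht1 ht _ (pow_mem hg n) _ hg, ih, Nat.cast_succ, add_mul, one_mul, hc]
    have hq : h * (g ^ k)⁻¹ ∈ X (t + 1) := by
      refine hstep t i j hij ht _ (mul_mem hh (inv_mem (pow_mem hg k))) ?_
      have h1 := hentry t i j ht1 ht _ (mul_mem hh (inv_mem (pow_mem hg k))) _ (pow_mem hg k)
      rw [inv_mul_cancel_right, hpw, hk, ZMod.natCast_zmod_val, mul_assoc, inv_mul_cancel₀ hg0, mul_one] at h1
      exact right_eq_add.mp h1
    have := mul_mem (mem_sup_left (T := zpowers g) hq) (mem_sup_right (pow_mem (mem_zpowers g) k))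
    rwa [inv_mul_cancel_right] at this
  -- the positions which matter
  let w : Fin a × Fin a → ℕ := fun d => 2 ^ (d.2 : ℕ) - 2 ^ (d.1 : ℕ)
  let D : Finset (Fin a × Fin a) :=
    Finset.univ.filter fun d => d.1 < d.2 ∧ M (w d) ≠ M (w d + 1)
  have hw : ∀ d : Fin a × Fin a, d.1 < d.2 → 1 ≤ w d ∧ w d + 2 ^ (d.1 : ℕ) = 2 ^ (d.2 : ℕ) := fun d hd => by
    have : 2 ^ (d.1 : ℕ) < 2 ^ (d.2 : ℕ) := Nat.pow_lt_pow_right one_lt_two hd
    simp only [w]; omega
  have hanti : ∀ t, X (t + 1) ≤ X t := fun t h hh => InLevel.mono (Nat.le_succ t) hh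
  have hDmem : ∀ d ∈ D, d.1 < d.2 ∧ ∃ g ∈ X (w d), (ρ g - 1) d.1 d.2 ≠ 0 := by
    intro d hd
    obtain ⟨hd1, hd2⟩ := (Finset.mem_filter.mp hd).2
    refine ⟨hd1, ?_⟩
    by_contra hno
    push Not at hno
    apply hd2
    have : X (w d) ≤ X (w d + 1) := fun h hh => hstep _ _ _ hd1 (hw d hd1).2 h hh (hno h hh)
    exact le_antisymm (sup_le_sup_right this _) (sup_le_sup_right (hanti _) _)
  have hDcard : D.card ≤ a ^ 2 / 4 := by
    refine card_triangleFree D (fun d hd => (hDmem d hd).1) fun i j l hij hjl hil => ?_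
    obtain ⟨hlt1, x, hx, hx0⟩ := hDmem _ hij
    obtain ⟨hlt2, y, hy, hy0⟩ := hDmem _ hjl
    obtain ⟨hs1, hs⟩ := hw (i, j) hlt1
    obtain ⟨ht1, ht⟩ := hw (j, l) hlt2
    obtain ⟨hu1, hu⟩ := hw (i, l) (lt_trans hlt1 hlt2)
    simp only at hs ht hu hlt1 hlt2 hx0 hy0
    set s := w (i, j)
    set t := w (j, l)
    set u := w (i, l)
    have hust : u = s + t := by omega
    obtain ⟨-, hne⟩ := (Finset.mem_filter.mp hil).2
    apply hne
    set z := ⁅x, y⁆ with hz
    set A := ρ x - 1 with hA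
    set B := ρ y - 1 with hB
    set S := A * B - B * A with hS
    have hSlev : InLevel u S := by
      rw [hust]
      exact InLevel.sub (InLevel.mul hx hy) ((InLevel.mul hy hx).mono (by omega))
    have hC := hlev1 (y * x)⁻¹
    have hzρ : ρ z - 1 = S + S * (ρ (y * x)⁻¹ - 1) := by
      have h1 : z = (x * y) * (y * x)⁻¹ := by rw [hz, commutatorElement_def]; group
      have h2 : ρ (y * x) * ρ (y * x)⁻¹ = 1 := by rw [← map_mul, mul_inv_cancel, map_one]
      calc ρ z - 1 = ρ (x * y) * ρ (y * x)⁻¹ - ρ (y * x) * ρ (y * x)⁻¹ := by rw [h1, map_mul, h2]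
        _ = (ρ x * ρ y - ρ y * ρ x) * ρ (y * x)⁻¹ := by rw [map_mul, map_mul, sub_mul]
        _ = _ := by rw [hS, hA, hB]; noncomm_ring
    have hzX : z ∈ X u := by
      rw [memX, hzρ]
      exact hSlev.add ((InLevel.mul hSlev hC).mono (Nat.le_add_right u 1))
    have hz0 : (ρ z - 1) i l ≠ 0 := by
      rw [hzρ, Matrix.add_apply]
      have h1 : (S * (ρ (y * x)⁻¹ - 1)) i l = 0 := by
        by_contra hne
        have := (InLevel.mul hSlev hC i l hne).2
        omega
      have h2 : (B * A) i l = 0 := by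
        rw [Matrix.mul_apply]
        refine Finset.sum_eq_zero fun k _ => ?_
        by_contra hne
        obtain ⟨k1, k2⟩ := hy i k (left_ne_zero_of_mul hne)
        obtain ⟨k3, k4⟩ := hx k l (right_ne_zero_of_mul hne)
        obtain ⟨e1, -⟩ := two_pow_sub_inj (i := (i : ℕ)) (j := (k : ℕ)) (k := (j : ℕ)) (l := (l : ℕ)) k1 hlt2
          (by omega)
        exact absurd (Fin.ext e1) hlt1.ne
      have h3 : (A * B) i l = A i j * B j l := by
        rw [Matrix.mul_apply]
        refine Finset.sum_eq_single j (fun k _ hk => ?_) (fun h => absurd (Finset.mem_univ j) h)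
        by_contra hne
        obtain ⟨k1, k2⟩ := hx i k (left_ne_zero_of_mul hne)
        obtain ⟨k3, k4⟩ := hy k l (right_ne_zero_of_mul hne)
        obtain ⟨-, e2⟩ := two_pow_sub_inj (i := (i : ℕ)) (j := (j : ℕ)) (k := (i : ℕ)) (l := (k : ℕ)) hlt1 k1
          (by omega)
        exact hk (Fin.ext e2.symm)
      rw [h1, add_zero, hS, Matrix.sub_apply, h2, sub_zero, h3]
      exact mul_ne_zero hx0 hy0
    have hzΦ : z ∈ frattini H := PGroup.commutatorElement_mem_frattini hH x y
    refine le_antisymm (sup_le ?_ le_sup_right) (sup_le_sup_right (hanti _) _)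
    exact fun h hh => (sup_le_sup_left (zpowers_le.mpr hzΦ) _)
      (hgen u i l hu1 (hlt1.trans hlt2) hu z hzX hz0 h hh)
  -- telescope
  have htel : ∀ n, (M (n + 1)).index ≤ (M 1).index * p ^ (D.filter fun d => w d ≤ n).card := by
    intro n
    induction n with
    | zero => exact Nat.le_mul_of_pos_right _ (pow_pos hp.out.pos _)
    | succ n ih =>
      have hsub : (D.filter fun d => w d ≤ n) ⊆ D.filter fun d => w d ≤ n + 1 := fun d hd => by
        rw [Finset.mem_filter] at hd ⊢
        exact ⟨hd.1, hd.2.trans (Nat.le_succ n)⟩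
      by_cases heq : M (n + 1) = M (n + 1 + 1)
      · rw [← heq]
        exact ih.trans (Nat.mul_le_mul_left _ (Nat.pow_le_pow_right hp.out.pos (Finset.card_le_card hsub)))
      -- some element of level `n + 1` is new
      obtain ⟨g, hg, hgM⟩ : ∃ g ∈ X (n + 1), g ∉ M (n + 1 + 1) := by
        by_contra h
        push Not at h
        exact heq (le_antisymm (sup_le h le_sup_right) (sup_le_sup_right (hanti _) _))
      obtain ⟨i, j, hne, hlt⟩ : ∃ i j, (ρ g - 1) i j ≠ 0 ∧ ¬ (n + 1 + 1 + 2 ^ (i : ℕ) ≤ 2 ^ (j : ℕ)) := by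
        by_contra h
        push Not at h
        exact hgM (mem_sup_left fun i j hij => ⟨(hg i j hij).1, h i j hij⟩)
      obtain ⟨hij, hle⟩ := hg i j hne
      have hpos : n + 1 + 2 ^ (i : ℕ) = 2 ^ (j : ℕ) := by omega
      have hwd : w (i, j) = n + 1 := by simp only [w]; omega
      have hdD : (i, j) ∈ D := Finset.mem_filter.mpr ⟨Finset.mem_univ _, hij, by rw [hwd]; exact heq⟩
      have hcard : (D.filter fun d => w d ≤ n).card + 1 ≤ (D.filter fun d => w d ≤ n + 1).card :=
        Finset.card_lt_card ((Finset.ssubset_iff_of_subset hsub).mpr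
          ⟨(i, j), Finset.mem_filter.mpr ⟨hdD, hwd.le⟩, fun h => by
            have := (Finset.mem_filter.mp h).2; omega⟩)
      haveI := hMn (n + 1 + 1)
      have h1 : (M (n + 1 + 1)).index ≤ p * (M (n + 1 + 1) ⊔ zpowers g).index :=
        index_le_mul_index_sup (mem_sup_right (PGroup.pow_mem_frattini hH g))
      have h2 : M (n + 1) ≤ M (n + 1 + 1) ⊔ zpowers g := by
        refine sup_le (fun h hh => ?_) (le_sup_right.trans le_sup_left)
        exact (sup_le_sup (le_sup_left : X (n + 1 + 1) ≤ M (n + 1 + 1)) (le_refl (zpowers g))) (hgen (n + 1) i j (Nat.le_add_left 1 n) hij hpos g hg hne h hh)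
      calc (M (n + 1 + 1)).index ≤ p * (M (n + 1)).index :=
            h1.trans (Nat.mul_le_mul_left _ (Nat.le_of_dvd (Nat.pos_of_ne_zero Subgroup.index_ne_zero_of_finite)
              (Subgroup.index_dvd_of_le h2)))
        _ ≤ p * ((M 1).index * p ^ (D.filter fun d => w d ≤ n).card) := Nat.mul_le_mul_left _ ih
        _ = (M 1).index * p ^ ((D.filter fun d => w d ≤ n).card + 1) := by rw [pow_succ]; ring
        _ ≤ _ := Nat.mul_le_mul_left _ (Nat.pow_le_pow_right hp.out.pos hcard)
  have hM1 : (M 1).index = 1 := by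
    rw [Subgroup.index_eq_one, eq_top_iff]
    exact fun h _ => mem_sup_left (hlev1 h)
  have hlast : X (2 ^ a + 1) ≤ ρ.ker := by
    intro h hh
    rw [MonoidHom.mem_ker, ← sub_eq_zero]
    ext i j
    by_contra hne
    have h1 := (hh i j hne).2
    have h2 : 2 ^ (j : ℕ) < 2 ^ a := Nat.pow_lt_pow_right one_lt_two j.2
    have := Nat.two_pow_pos (i : ℕ)
    omega
  calc (ρ.ker ⊔ frattini H).index ≤ (M (2 ^ a + 1)).index :=
        Nat.le_of_dvd (Nat.pos_of_ne_zero Subgroup.index_ne_zero_of_finite)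
          (Subgroup.index_dvd_of_le (sup_le_sup_right hlast _))
    _ ≤ (M 1).index * p ^ (D.filter fun d => w d ≤ 2 ^ a).card := htel _
    _ ≤ p ^ (a ^ 2 / 4) := by
      rw [hM1, one_mul]
      exact Nat.pow_le_pow_right hp.out.pos ((Finset.card_filter_le _ _).trans hDcard)

end Cfsg.Agent.SubgroupRank
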